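import Cfsg.Agent.Lib.HN.Out.Local
import Cfsg.Prelude.Def_KGroupFacts

/-!
# The outer automorphism
-/

set_option autoImplicit false
set_option maxRecDepth 100000

namespace Cfsg.Lib.HN.Out

open Top Top.Data

theorem gen_ext {M : Type*} [Group M] {f g : Spor.HN →* M} (h : ∀ i < 4, f (hx i) = g (hx i)) :
    f = g := by
  refine PresentedGroup.ext fun a => ?_
  cases a
  · exact h 0 (by norm_num)
  · exact h 1 (by norm_num)
  · exact h 2 (by norm_num)
  · exact h 3 (by norm_num)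

/-- The images of the generators. -/
noncomputable def αgen : Spor.HN.Gen → Spor.HN
  | .x => hx 0
  | .y => hx 1
  | .z => hx 2 * (hx 0 * hx 0)
  | .t => hx 3 ^ 3

theorem zt_three_rel : (hx 2 * (hx 0 * hx 0) * hx 3 ^ 3) ^ 3 = 1 := by
  obtain ⟨-, -, -, -, -, -, hc, hca, -, -, h5, hxt, -, hzt⟩ := hn_basic
  obtain ⟨e2, -, -, -⟩ := hx_t
  have hxt' : (hx 0)⁻¹ * hx 3 * hx 0 = hx 3 ^ 3 := by
    calc (hx 0)⁻¹ * hx 3 * hx 0 = (hx 3 ^ 2)⁻¹ * hx 3 ^ 5 := by
          rw [h5, mul_one]; exact eq_inv_of_mul_eq_one_left hxt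
      _ = hx 3 ^ 3 := by group
  have hcc : (hx 2)⁻¹ = hx 2 := inv_eq_of_mul_eq_one_right (by rwa [← sq])
  have hxz : (hx 0)⁻¹ * hx 2 * hx 0 = hx 2 * (hx 0 * hx 0) := by
    have h1 : (hx 0)⁻¹ = hx 2 * hx 0 * hx 2 := by
      refine inv_eq_of_mul_eq_one_left ?_
      rw [← hca, pow_two, mul_assoc, mul_assoc]
    rw [h1, mul_assoc (hx 2 * hx 0), ← sq, hc, mul_one, mul_assoc]
  rw [show hx 2 * (hx 0 * hx 0) * hx 3 ^ 3 = (hx 0)⁻¹ * (hx 2 * hx 3) * ((hx 0)⁻¹)⁻¹ by
    rw [← hxz, ← hxt']; group, conj_pow, hzt]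
  group

theorem α_rels : ∀ r ∈ Spor.coxRelators Spor.HN.edges ∪ {r | r ∈ Spor.HN.extra},
    FreeGroup.lift αgen r = 1 := by
  rintro r (⟨p, hp, -⟩ | hr)
  · simp [Spor.HN.edges, Spor.coxNodes] at hp
  obtain ⟨r1, r2, r3, r4, r5, r6, r7, r8, r9, r10, r11, r12, r13, r14⟩ := hn_basic
  obtain ⟨a4, hab, hac⟩ := hx_sq
  rw [pow_two] at hab hac
  obtain ⟨-, -, ed, -⟩ := hx_t
  set A := hx 0 * hx 0 with hA
  have hAA : A * A = 1 := by rw [← a4, hA]; simp [pow_succ, mul_assoc]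
  have hAa : Commute A (hx 0) := (Commute.refl (hx 0)).mul_left (Commute.refl (hx 0))
  have hr' : List.Forall (fun r => FreeGroup.lift αgen r = 1) Spor.HN.extra := by
    simp only [Spor.HN.extra, List.Forall, Spor.HN.x, Spor.HN.y, Spor.HN.z, Spor.HN.t, map_mul,
      map_pow, map_inv, FreeGroup.lift_apply_of, αgen]
    refine ⟨r1, r2, r3, r4, r5, r6, ?_, ?_, ?_, ?_, ?_, ?_, ?_, zt_three_rel⟩
    · rw [hac.symm.mul_pow, r7, one_mul, pow_two, hAA]
    · rw [mul_assoc (hx 2) A, hAa.eq, ← mul_assoc,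
        (show Commute (hx 2 * hx 0) A from hac.symm.mul_left hAa.symm).mul_pow, r8, one_mul, pow_two,
        hAA]
    · set w := hx 1 * hx 0 * hx 1 * hx 0 * hx 1 ^ 2 * hx 0 * (hx 1)⁻¹
      have hAw : Commute A w :=
        (((((hab.mul_right hAa).mul_right hab).mul_right hAa).mul_right (hab.pow_right 2)).mul_right
          hAa).mul_right hab.inv_right
      calc (hx 2 * A)⁻¹ * w⁻¹ * (hx 2 * A) * w * (hx 0 ^ 2)⁻¹
          = A⁻¹ * ((hx 2)⁻¹ * w⁻¹ * hx 2) * (A * w) * (hx 0 ^ 2)⁻¹ := by group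
        _ = A⁻¹ * ((hx 2)⁻¹ * w⁻¹ * hx 2 * w) * A * (hx 0 ^ 2)⁻¹ := by rw [hAw.eq]; group
        _ = A⁻¹ * (((hx 2)⁻¹ * w⁻¹ * hx 2 * w * (hx 0 ^ 2)⁻¹) * hx 0 ^ 2) * A * (hx 0 ^ 2)⁻¹ := by
            group
        _ = A⁻¹ * A * A * (hx 0 ^ 2)⁻¹ := by rw [r9, one_mul, pow_two]
        _ = 1 := by rw [inv_mul_cancel, one_mul, pow_two, hA, mul_inv_cancel]
    · set u := hx 1 ^ 3 * hx 0 * hx 1 * hx 0 * hx 1
      have hAu : Commute A u :=
        ((((hab.pow_right 3).mul_right hAa).mul_right hab).mul_right hAa).mul_right hab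
      have hm : u⁻¹ * (hx 2 * A) * u * hx 0 = u⁻¹ * hx 2 * u * hx 0 * A := by
        calc u⁻¹ * (hx 2 * A) * u * hx 0 = u⁻¹ * hx 2 * (A * u) * hx 0 := by group
          _ = u⁻¹ * hx 2 * u * (A * hx 0) := by rw [hAu.eq]; group
          _ = u⁻¹ * hx 2 * u * hx 0 * A := by rw [hAa.eq]; group
      have hAm : Commute A (u⁻¹ * hx 2 * u * hx 0) :=
        ((hAu.inv_right.mul_right hac).mul_right hAu).mul_right hAa
      rw [hm, hAm.symm.mul_pow]
      calc hx 2 * A * ((u⁻¹ * hx 2 * u * hx 0) ^ 3 * A ^ 3)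
          = hx 2 * (A * (u⁻¹ * hx 2 * u * hx 0) ^ 3) * A ^ 3 := by group
        _ = hx 2 * (u⁻¹ * hx 2 * u * hx 0) ^ 3 * ((A * A) * (A * A)) := by
            rw [(hAm.pow_right 3).eq]; simp [pow_succ, mul_assoc]
        _ = 1 := by rw [r10, hAA, one_mul, one_mul]
    · rw [← pow_mul, pow_mul' (hx 3) 3 5, r11, one_pow]
    · rw [show (hx 0)⁻¹ * hx 3 ^ 3 * hx 0 = ((hx 0)⁻¹ * hx 3 * hx 0) ^ 3 by
        simp [pow_succ, mul_assoc], eq_inv_of_mul_eq_one_left r12]
      group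
    · calc (hx 3 ^ 3)⁻¹ * (hx 1)⁻¹ * hx 3 ^ 3 * hx 1
          = (hx 3 ^ 3)⁻¹ * (hx 1)⁻¹ * (hx 3 ^ 3 * hx 1) := by group
        _ = 1 := by rw [(ed.pow_left 3).eq]; group
  exact List.forall_iff_forall_mem.1 hr' r hr

/-- The automorphism as a homomorphism. -/
noncomputable def αHom : Spor.HN →* Spor.HN := PresentedGroup.toGroup α_rels

theorem αHom_hx : αHom (hx 0) = hx 0 ∧ αHom (hx 1) = hx 1 ∧ αHom (hx 2) = hx 2 * (hx 0 * hx 0) ∧
    αHom (hx 3) = hx 3 ^ 3 :=
  ⟨PresentedGroup.toGroup.of α_rels, PresentedGroup.toGroup.of α_rels,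
    PresentedGroup.toGroup.of α_rels, PresentedGroup.toGroup.of α_rels⟩

theorem αHom_sq : αHom.comp αHom = (MulAut.conj (hx 0 * hx 0)).toMonoidHom := by
  obtain ⟨hx0, hx1, hx2, hx3⟩ := αHom_hx
  obtain ⟨a4, hab, hac⟩ := hx_sq
  rw [pow_two] at hab hac
  obtain ⟨-, e2, -, -⟩ := hx_t
  rw [pow_two] at e2
  refine gen_ext fun i hi => ?_
  show αHom (αHom (hx i)) = hx 0 * hx 0 * hx i * (hx 0 * hx 0)⁻¹
  interval_cases i
  · rw [hx0, hx0]; group
  · rw [hx1, hx1, hab.eq]; group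
  · rw [hx2, map_mul, hx2, map_mul, hx0, hac.eq, mul_assoc,
      show hx 0 * hx 0 * (hx 0 * hx 0) = 1 by rw [← a4]; simp [pow_succ, mul_assoc]]
    group
  · rw [hx3, map_pow, hx3, e2, ← pow_mul]
    calc hx 3 ^ (3 * 3) = (hx 3 ^ 5) ^ 2 * (hx 3)⁻¹ := by group
      _ = (hx 3)⁻¹ := by rw [hn_basic.2.2.2.2.2.2.2.2.2.2.1]; group

theorem αHom_bijective : Function.Bijective αHom := by
  have h : Function.Bijective (αHom.comp αHom) := by
    rw [αHom_sq]; exact (MulAut.conj (hx 0 * hx 0)).bijective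
  exact ⟨Function.Injective.of_comp (f := αHom) h.1, Function.Surjective.of_comp (g := αHom) h.2⟩

/-- The automorphism. -/
noncomputable def α : MulAut Spor.HN := MulEquiv.ofBijective αHom αHom_bijective

theorem α_apply (g : Spor.HN) : α g = αHom g := rfl

theorem α_sq : α * α = MulAut.conj (hx 0 * hx 0) :=
  MulEquiv.ext fun g => DFunLike.congr_fun αHom_sq g

theorem α_notInn : α ∉ Inn Spor.HN := by
  rintro ⟨g, hg⟩
  have hap : ∀ k, g * k * g⁻¹ = αHom k := fun k => by rw [← α_apply, ← hg]; rfl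
  obtain ⟨hx0, hx1, hx2, -⟩ := αHom_hx
  have hmem : ∀ k ∈ Hsub, αHom k ∈ Hsub := by
    intro k hk
    obtain ⟨a, rfl⟩ := exists_of_mem hk
    induction wgen_mem_closure a using Subgroup.closure_induction with
    | one => rw [map_one, map_one]; exact one_mem _
    | mem y hy =>
      obtain ⟨i, hi, rfl⟩ := hy
      simp only [Set.mem_ofPred_eq, List.mem_cons, List.not_mem_nil, or_false] at hi
      rcases hi with rfl | rfl | rfl <;> rw [φP_wgen (by norm_num)]
      · rw [hx0]; exact hx_mem_Hsub (by norm_num)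
      · rw [hx1]; exact hx_mem_Hsub (by norm_num)
      · rw [hx2]
        exact mul_mem (hx_mem_Hsub (by norm_num)) (mul_mem (hx_mem_Hsub (by norm_num))
          (hx_mem_Hsub (by norm_num)))
    | mul a b _ _ ha hb => rw [map_mul, map_mul]; exact mul_mem (ha (φP_mem a)) (hb (φP_mem b))
    | inv a _ ha => rw [map_inv, map_inv]; exact inv_mem (ha (φP_mem a))
  have hinv : ∀ k ∈ Hsub, g⁻¹ * k * g ∈ Hsub := by
    intro k hk
    have h1 : αHom (αHom (g⁻¹ * k * g)) ∈ Hsub := by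
      rw [← hap (g⁻¹ * k * g)]
      have : g * (g⁻¹ * k * g) * g⁻¹ = k := by group
      rw [this]; exact hmem k hk
    have h2 := DFunLike.congr_fun αHom_sq (g⁻¹ * k * g)
    rw [MonoidHom.comp_apply] at h2
    rw [h2] at h1
    have hA : hx 0 * hx 0 ∈ Hsub := mul_mem (hx_mem_Hsub (by norm_num)) (hx_mem_Hsub (by norm_num))
    have := mul_mem (mul_mem (inv_mem hA) h1) hA
    simpa [mul_assoc] using this
  obtain ⟨a, rfl⟩ := exists_of_mem (mem_Hsub_of_normalize (fun k hk => hap k ▸ hmem k hk) hinv)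
  have hc : ∀ k ∈ Sub100.G, Commute (Sub100.π a) k := by
    have hall : ∀ b : PS, Commute (Sub100.π a) (Sub100.π b) := by
      intro b
      induction wgen_mem_closure b using Subgroup.closure_induction with
      | one => rw [map_one]; exact Commute.one_right _
      | mem y hy =>
        obtain ⟨i, hi, rfl⟩ := hy
        simp only [Set.mem_ofPred_eq, List.mem_cons, List.not_mem_nil, or_false] at hi
        have key : ∀ {i : ℕ} {q : PS}, i < 3 → αHom (hx i) = φP (wgen relP i * q) → Sub100.π q = 1 →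
            Commute (Sub100.π a) (Sub100.π (wgen relP i)) := by
          intro i q hi h hq
          have h2 := hap (hx i)
          rw [h, ← φP_wgen hi, ← map_inv, ← map_mul, ← map_mul] at h2
          have h3 := congrArg Sub100.π (φP_injective h2)
          simp only [map_mul, map_inv, hq, mul_one] at h3
          exact mul_inv_eq_iff_eq_mul.1 h3
        rcases hi with rfl | rfl | rfl
        · exact key (q := 1) (by norm_num) (by rw [mul_one, hx0, φP_wgen (by norm_num)]) (map_one _)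
        · exact key (q := 1) (by norm_num) (by rw [mul_one, hx1, φP_wgen (by norm_num)]) (map_one _)
        · exact key (q := Sub100.zc) (by norm_num)
            (by rw [map_mul, φP_zc, hx2, φP_wgen (by norm_num)]) Sub100.π_zc
      | mul b c _ _ hb hc => rw [map_mul]; exact hb.mul_right hc
      | inv b _ hb => rw [map_inv]; exact hb.inv_right
    rintro _ ⟨k, -, rfl⟩
    exact hall k
  have hz := hap (hx 2)
  rw [hx2] at hz
  have hcm : Commute (φP a) (hx 2) := by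
    rcases ker_π (eq_one_of_commute_G hc) with rfl | rfl
    · rw [map_one]; exact Commute.one_left _
    · exact zH_commute (hx_mem_Hsub (by norm_num))
  rw [hcm.eq, mul_inv_cancel_right] at hz
  have := mul_left_cancel (a := hx 2) (b := (1 : Spor.HN)) (c := hx 0 * hx 0) (by rw [mul_one]; exact hz)
  exact Sub100.zc_ne (φP_injective (by rw [map_one, φP_zc]; exact this.symm))

end Cfsg.Lib.HN.Out
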