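import Cfsg.Agent.Lib.HN.Out.Alpha

/-!
# Automorphisms fixing the first three generators are inner
-/

set_option autoImplicit false
set_option maxRecDepth 100000

namespace Cfsg.Lib.HN.Out

open Top Top.Data

theorem pow_mem_Hsub {m : ℕ} (h : hx 3 ^ m ∈ Hsub) : m % 5 = 0 := by
  by_contra hm
  have h5 : hx 3 ^ 5 = 1 := hn_basic.2.2.2.2.2.2.2.2.2.2.1
  refine Hsub_ne_top (Hsub_le_iff ?_ le_rfl)
  have : ∃ n, m * n % 5 = 1 := by
    have hlt : m % 5 < 5 := Nat.mod_lt _ (by norm_num)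
    rcases (show m % 5 = 1 ∨ m % 5 = 2 ∨ m % 5 = 3 ∨ m % 5 = 4 by omega) with h | h | h | h
    · exact ⟨1, by omega⟩
    · exact ⟨3, by omega⟩
    · exact ⟨2, by omega⟩
    · exact ⟨4, by omega⟩
  obtain ⟨n, hn⟩ := this
  have he : (hx 3 ^ m) ^ n = hx 3 := by
    rw [← pow_mul, ← Nat.mod_add_div (m * n) 5, pow_add, pow_mul, h5, one_pow, hn, pow_one, mul_one]
  exact he ▸ pow_mem h n

/-- Conjugation of the fourth generator by powers of the first. -/
theorem x_pow_conj : ∀ i, hx 0 ^ i * hx 3 * (hx 0 ^ i)⁻¹ = hx 3 ^ 2 ^ i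
  | 0 => by simp
  | i + 1 => by
    rw [pow_succ' (hx 0), mul_inv_rev,
      show hx 0 * hx 0 ^ i * hx 3 * ((hx 0 ^ i)⁻¹ * (hx 0)⁻¹) =
        hx 0 * (hx 0 ^ i * hx 3 * (hx 0 ^ i)⁻¹) * (hx 0)⁻¹ by group,
      x_pow_conj i, ← conj_pow, hx_t.1, ← pow_mul, ← pow_succ']

theorem φP_x_pow (i : ℕ) : φP (wgen relP 0 ^ i) = hx 0 ^ i := by
  rw [map_pow, φP_wgen (by norm_num)]

/-- An element with the properties of the fourth generator is a power of it. -/
theorem eq_pow_of_rels {t' : Spor.HN} (hL : ∀ d ∈ stab0, Commute t' (φP d)) (h5 : t' ^ 5 = 1)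
    (hxt : (hx 0)⁻¹ * t' * hx 0 * t' ^ 2 = 1) : ∃ k < 5, t' = hx 3 ^ k := by
  have h35 : hx 3 ^ 5 = 1 := hn_basic.2.2.2.2.2.2.2.2.2.2.1
  -- the coset
  obtain ⟨⟨j, q⟩, hw⟩ := toCos_bijective.2 (t' : Cos)
  obtain ⟨a, rfl⟩ := QuotientGroup.mk_surjective q
  have hfix : ∀ d ∈ stab0, a⁻¹ * d * a ∈ odata.Kj (wgen relP) j := fun d hd => by
    refine conj_mem_of_fix ?_
    show φP d • toCos ⟨j, (a : PS ⧸ _)⟩ = toCos ⟨j, (a : PS ⧸ _)⟩
    rw [hw, ← smul_c0 t', smul_smul, ← (hL d hd).eq, mul_smul, φP_fix]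
  have hj : j.1 < 9 := K_length ▸ j.2
  change φP a • rhoPt j.1 = (t' : Cos) at hw
  have hjs : j.1 ≤ 1 := by
    have hcard : 126000 ≤ orders.getD j.1 0 := by
      rw [← card_stab0, ← orders_card hj]
      have hinj : Function.Injective fun d : stab0 =>
          (⟨a⁻¹ * d.1 * a, hfix d.1 d.2⟩ : wordSub (wgen relP) (odata.kgens j.1)) := fun d e h => by
        have h' := congrArg Subtype.val h
        simp only [mul_left_inj, mul_right_inj] at h'
        exact Subtype.ext h'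
      exact Nat.card_le_card_of_injective _ hinj
    by_contra hne
    have hall : (List.range 9).all (fun j => Nat.ble j 1 || Nat.blt (orders.getD j 0) 126000) = true := by
      decide +kernel
    have h := List.all_eq_true.1 hall j.1 (List.mem_range.2 hj)
    simp only [Bool.or_eq_true, Nat.ble_eq, Nat.blt_eq] at h
    omega
  -- the coset is that of a power of the fourth generator
  obtain ⟨k, hk, hcos⟩ : ∃ k < 5, (t' : Cos) = ((hx 3 ^ k : Spor.HN) : Cos) := by
    interval_cases h01 : j.1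
    · refine ⟨0, by norm_num, ?_⟩
      rw [← hw, rhoPt, show sys.ρ.getD 0 [] = [] by decide +kernel, val_nil, one_smul, φP_fix,
        pow_zero]
      rfl
    · have hK1 : ∀ b ∈ odata.Kj (wgen relP) j, ψP b o = o := by
        intro b hb
        have hle : odata.Kj (wgen relP) j ≤ stab0 := by
          refine (Subgroup.closure_le _).2 ?_
          rintro _ ⟨u, hu, rfl⟩
          refine Fin.ext ?_
          rw [eval_zero (kgens_letters odata_valid j.1 u hu)]
          show _ = 0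
          rw [h01] at hu
          exact (show ∀ u ∈ odata.kgens 1, twalk sys.P (winv u) 0 = 0 by decide +kernel) u hu
        exact hle hb
      obtain ⟨i, hi, l, hl, rfl⟩ := normalizer_stab0 (a := a) fun d hd => hK1 _ (hfix d hd)
      refine ⟨2 ^ i % 5, Nat.mod_lt _ (by norm_num), ?_⟩
      rw [← hw, rhoPt, show sys.ρ.getD 1 [] = [3] by decide +kernel, val_cons, val_nil, mul_one,
        map_mul, mul_smul, smul_smul (φP l), ← (commute_stab0 l hl).eq, mul_smul, φP_fix,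
        φP_x_pow, smul_smul]
      have e : hx 0 ^ i * hx 3 = hx 3 ^ (2 ^ i % 5) * hx 0 ^ i := by
        rw [← mul_inv_eq_iff_eq_mul, x_pow_conj]
        conv_lhs => rw [← Nat.mod_add_div (2 ^ i) 5, pow_add, pow_mul, h35, one_pow, mul_one]
      rw [e, mul_smul, ← φP_x_pow, φP_fix, smul_c0]
  refine ⟨k, hk, ?_⟩
  have hh : (hx 3 ^ k)⁻¹ * t' ∈ Hsub := QuotientGroup.eq.1 hcos.symm
  obtain ⟨b, hb⟩ := exists_of_mem hh
  have ht : t' = hx 3 ^ k * φP b := by rw [hb]; group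
  have hbL : ∀ d ∈ stab0, Commute b d := fun d hd => by
    have h1 : Commute (φP b) (φP d) := by
      rw [hb]
      exact (((commute_stab0 d hd).pow_left k).inv_left).mul_left (hL d hd)
    exact φP_injective (by rw [map_mul, map_mul]; exact h1.eq)
  obtain ⟨i, hi, l, hl, hbl⟩ := normalizer_stab0 (a := b) fun d hd => by
    rw [mul_assoc, ← (hbL d hd).eq, inv_mul_cancel_left]; exact hd
  set h := φP b
  have hht : h * hx 3 = hx 3 ^ 2 ^ i * h := by
    rw [← mul_inv_eq_iff_eq_mul, show h = hx 0 ^ i * φP l by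
      show φP b = _; rw [hbl, map_mul, φP_x_pow]]
    calc hx 0 ^ i * φP l * hx 3 * (hx 0 ^ i * φP l)⁻¹
        = hx 0 ^ i * (φP l * hx 3) * (φP l)⁻¹ * (hx 0 ^ i)⁻¹ := by group
      _ = hx 0 ^ i * (hx 3 * φP l) * (φP l)⁻¹ * (hx 0 ^ i)⁻¹ := by rw [(commute_stab0 l hl).eq]
      _ = hx 0 ^ i * hx 3 * (hx 0 ^ i)⁻¹ := by group
      _ = hx 3 ^ 2 ^ i := x_pow_conj i
  have hhm : ∀ m : ℕ, h * hx 3 ^ m = hx 3 ^ (2 ^ i * m) * h := fun m => by
    have : SemiconjBy h (hx 3) (hx 3 ^ 2 ^ i) := hht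
    rw [pow_mul]; exact (this.pow_right m).eq
  have hn : ∀ n : ℕ, ∃ m : ℕ, (hx 3 ^ k * h) ^ n = hx 3 ^ m * h ^ n := by
    intro n
    induction n with
    | zero => exact ⟨0, by simp⟩
    | succ n ih =>
      obtain ⟨m, hm⟩ := ih
      refine ⟨k + 2 ^ i * m, ?_⟩
      rw [pow_succ', hm, mul_assoc, ← mul_assoc h, hhm m, pow_succ' h n, pow_add]
      simp [mul_assoc]
  obtain ⟨m, hm⟩ := hn 5
  rw [← ht, h5] at hm
  have hm5 : hx 3 ^ m ∈ Hsub := by
    rw [show hx 3 ^ m = (h ^ 5)⁻¹ by exact eq_inv_of_mul_eq_one_left hm.symm, ← map_pow, ← map_inv]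
    exact φP_mem _
  have hh5 : h ^ 5 = 1 := by
    have : hx 3 ^ m = 1 := by
      rw [← Nat.mod_add_div m 5, pow_mem_Hsub hm5, Nat.zero_add, pow_mul, h35, one_pow]
    rw [this, one_mul] at hm
    exact hm.symm
  have hi0 : i = 0 := by
    have hb5 : b ^ 5 = 1 := φP_injective (by rw [map_pow, map_one]; exact hh5)
    have hxl : Commute (wgen relP 0 ^ i) l := by
      have hbl' : wgen relP 0 ^ i = b * l⁻¹ := by rw [hbl]; group
      rw [hbl']
      exact (hbL l hl).mul_left ((Commute.refl l).inv_left)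
    have : wgen relP 0 ^ (5 * i) ∈ stab0 := by
      rw [hbl, hxl.mul_pow, mul_eq_one_iff_eq_inv, ← pow_mul, Nat.mul_comm] at hb5
      rw [hb5]
      exact inv_mem (pow_mem hl 5)
    have hv : ∀ n, val (wgen relP) (List.replicate n 0) = wgen relP 0 ^ n := fun n => by
      induction n with
      | zero => simp
      | succ n ih => rw [List.replicate_succ, val_cons, ih, pow_succ']
    have h2 : (ψP (val (wgen relP) (List.replicate (5 * i) 0)) o).1 = 0 := by
      rw [hv]; exact congrArg Fin.val this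
    rw [eval_zero (by interval_cases i <;> decide +kernel)] at h2
    interval_cases i <;> first | rfl | (revert h2; decide +kernel)
  subst hi0
  have hhc : Commute h (hx 3) := by rw [commute_iff_eq, hht, pow_zero, pow_one]
  have e1 : (hx 0)⁻¹ * h * hx 0 = h⁻¹ ^ 2 := by
    have e3 : (hx 0)⁻¹ * hx 3 * hx 0 = (hx 3 ^ 2)⁻¹ :=
      eq_inv_of_mul_eq_one_left hn_basic.2.2.2.2.2.2.2.2.2.2.2.1
    have h1 : (hx 0)⁻¹ * t' * hx 0 = (t' ^ 2)⁻¹ := eq_inv_of_mul_eq_one_left hxt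
    rw [ht, (hhc.symm.pow_left k).mul_pow, mul_inv_rev, ← pow_mul] at h1
    have h2 : (hx 0)⁻¹ * (hx 3 ^ k * h) * hx 0 =
        (hx 3 ^ (k * 2))⁻¹ * ((hx 0)⁻¹ * h * hx 0) := by
      have : (hx 0)⁻¹ * hx 3 ^ k * hx 0 = (hx 3 ^ (k * 2))⁻¹ := by
        have := (conj_pow (a := (hx 0)⁻¹) (b := hx 3) (i := k))
        rw [inv_inv, e3, inv_pow, ← pow_mul, Nat.mul_comm 2 k] at this
        exact this.symm
      calc (hx 0)⁻¹ * (hx 3 ^ k * h) * hx 0 =
          ((hx 0)⁻¹ * hx 3 ^ k * hx 0) * ((hx 0)⁻¹ * h * hx 0) := by group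
        _ = _ := by rw [this]
    rw [h2, ((hhc.pow_left 2).pow_right (k * 2)).inv_inv.eq] at h1
    rw [inv_pow]
    exact mul_left_cancel h1
  have e2 : h = 1 := by
    have hA : (hx 0)⁻¹ * ((hx 0)⁻¹ * h * hx 0) * hx 0 = h := by
      have hz := zH_commute (show h ∈ Hsub from φP_mem b)
      rw [φP_zc] at hz
      calc (hx 0)⁻¹ * ((hx 0)⁻¹ * h * hx 0) * hx 0 = (hx 0 * hx 0)⁻¹ * (h * (hx 0 * hx 0)) := by
            group
        _ = h := by rw [← hz.eq, inv_mul_cancel_left]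
    have e4 : (hx 0)⁻¹ * (h⁻¹ ^ 2) * hx 0 = h ^ 4 := by
      rw [show (hx 0)⁻¹ * (h⁻¹ ^ 2) * hx 0 = (((hx 0)⁻¹ * h * hx 0)⁻¹) ^ 2 by
        simp [pow_succ, mul_assoc], e1]
      group
    rw [e1, e4] at hA
    have h3 : h ^ 3 = 1 := by
      calc h ^ 3 = h ^ 4 * h⁻¹ := by group
        _ = 1 := by rw [hA, mul_inv_cancel]
    calc h = (h ^ 3) ^ 2 * (h ^ 5)⁻¹ := by group
      _ = 1 := by rw [h3, hh5]; group
  rw [ht, e2, mul_one]

/-- An automorphism fixing the first three generators is inner. -/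
theorem inner_of_fix {φ : MulAut Spor.HN} (h : ∀ i < 3, φ (hx i) = hx i) : φ ∈ Inn Spor.HN := by
  have hH : ∀ a : PS, φ (φP a) = φP a := by
    intro a
    induction wgen_mem_closure a using Subgroup.closure_induction with
    | one => rw [map_one, map_one]
    | mem y hy =>
      obtain ⟨i, hi, rfl⟩ := hy
      simp only [Set.mem_ofPred_eq, List.mem_cons, List.not_mem_nil, or_false] at hi
      rw [φP_wgen (by omega)]; exact h i (by omega)
    | mul a b _ _ ha hb => rw [map_mul, map_mul, ha, hb]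
    | inv a _ ha => rw [map_inv, map_inv, ha]
  obtain ⟨-, -, -, -, -, -, hc, -, -, -, h5, hxt, -, hzt⟩ := hn_basic
  obtain ⟨-, e2, -, -⟩ := hx_t
  obtain ⟨k, hk, ht⟩ := eq_pow_of_rels (t' := φ (hx 3))
    (fun d hd => by rw [← hH d]; exact (commute_stab0 d hd).map φ)
    (by rw [← map_pow, h5, map_one])
    (by rw [← h 0 (by norm_num), ← map_inv, ← map_mul, ← map_mul, ← map_pow, ← map_mul, hxt, map_one])
  have hz3 : (hx 2 * hx 3 ^ k) ^ 3 = 1 := by
    rw [← ht, ← h 2 (by norm_num), ← map_mul, ← map_pow, hzt, map_one]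
  have hne : ∀ l : List ℕ, (∀ g ∈ l, g < 7) → (evW sys odata l (0, [])).1 ≠ 0 → val hx l ≠ 1 := by
    intro l hl hj h1
    obtain ⟨e, e1, -⟩ := actW_pt hl (p := (0, [])) (by norm_num) rfl
    rw [← act_hx hl, h1, map_one, Equiv.Perm.one_apply] at e
    have := congrArg (fun w : Ω => w.1.1) e
    simp only [pt, OData.mk'] at this
    exact hj (by omega)
  interval_cases k
  · exfalso
    rw [pow_zero, ← map_one φ] at ht
    refine Hsub_ne_top (Hsub_le_iff ?_ le_rfl)
    rw [φ.injective ht]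
    exact Hsub.one_mem
  · refine ⟨1, ?_⟩
    rw [map_one]
    refine MulEquiv.toMonoidHom_injective (gen_ext fun i hi => ?_)
    show hx i = φ (hx i)
    rcases Nat.lt_or_ge i 3 with hlt | hge
    · exact (h i hlt).symm
    · obtain rfl : i = 3 := by omega
      rw [ht, pow_one]
  · exfalso
    refine hne [2, 3, 3, 2, 3, 3, 2, 3, 3] (by decide) (by decide +kernel) ?_
    simp only [val_cons, val_nil, mul_one]
    simpa [pow_succ, mul_assoc] using hz3
  · exfalso
    refine hne [2, 3, 3, 3, 2, 3, 3, 3, 2, 3, 3, 3] (by decide) (by decide +kernel) ?_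
    simp only [val_cons, val_nil, mul_one]
    simpa [pow_succ, mul_assoc] using hz3
  · refine ⟨hx 0 * hx 0, MulEquiv.toMonoidHom_injective (gen_ext fun i hi => ?_)⟩
    show hx 0 * hx 0 * hx i * (hx 0 * hx 0)⁻¹ = φ (hx i)
    rcases Nat.lt_or_ge i 3 with hlt | hge
    · rw [h i hlt]
      have hz := zH_commute (hx_mem_Hsub hlt)
      rw [φP_zc] at hz
      rw [hz.eq, mul_inv_cancel_right]
    · obtain rfl : i = 3 := by omega
      rw [ht, ← pow_two, e2]
      calc (hx 3)⁻¹ = hx 3 ^ 5 * (hx 3)⁻¹ := by rw [h5, one_mul]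
        _ = hx 3 ^ 4 := by group

end Cfsg.Lib.HN.Out
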