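import Cfsg.Agent.Lib.HN.Sub100.Model
import Cfsg.Agent.Lib.HN.Out.Chain2

/-!
# An element of order eleven commutes with one involution in the double cover

The image of the element fixes one of the hundred points and permutes its neighbours in two
cycles; the graph leaves no room for a commuting involution.
-/

set_option autoImplicit false
set_option maxRecDepth 100000

namespace Cfsg.Lib.HN.Out

open Sub100

/-- Adjacency. -/
def edge (i j : ℕ) : Bool := (adj.getD i 0).testBit j

/-- The element of order eleven. -/
noncomputable abbrev sel : PS := val (wgen relP) sWord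

theorem wgen_mem_closure (a : PS) : a ∈ Subgroup.closure (wgen relP '' {i | i ∈ [0, 1, 2]}) := by
  rw [wgen_closure relP (S := [0, 1, 2])]
  · trivial
  · intro i hi
    interval_cases i
    · exact Or.inl (by simp)
    · exact Or.inl (by simp)
    · exact Or.inl (by simp)
    · refine Or.inr ?_
      simpa using wgen_rel relP [3] (by simp)

theorem edge_inv (a : PS) : ∀ i j : Fin 100, edge (π a i).1 (π a j).1 = edge i.1 j.1 := by
  induction wgen_mem_closure a using Subgroup.closure_induction with
  | one => intro i j; rw [map_one]; rfl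
  | mem y hy =>
    obtain ⟨g, hg, rfl⟩ := hy
    have h : ([0, 1, 2] : List ℕ).all (fun g => lettersIn [0, 1, 2, 4, 5] [g] &&
        (List.range 100).all fun i => (List.range 100).all fun j =>
          edge (twalk tab (winv [g]) i) (twalk tab (winv [g]) j) == edge i j) = true := by decide +kernel
    have h' := List.all_eq_true.1 h g hg
    simp only [Bool.and_eq_true, List.all_eq_true, List.mem_range, beq_iff_eq] at h'
    intro i j
    rw [show wgen relP g = val (wgen relP) [g] by simp, π_apply h'.1, π_apply h'.1]
    exact h'.2 i.1 i.2 j.1 j.2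
  | mul a b _ _ ha hb => intro i j; rw [map_mul]; exact (ha _ _).trans (hb i j)
  | inv a _ ha =>
    intro i j
    rw [← ha (π a⁻¹ i) (π a⁻¹ j), ← Equiv.Perm.mul_apply, ← Equiv.Perm.mul_apply, ← map_mul,
      mul_inv_cancel, map_one]
    rfl

theorem card_range_π : 88704000 ≤ Nat.card π.range := by
  rw [show (88704000 : ℕ) = baseSize chain2 by decide +kernel]
  refine (Nat.le_mul_of_pos_right _ Nat.card_pos).trans (base_le Sub100.perm_ok symS_P
    (show baseOK tab 100 [0, 1, 2, 4, 5] chain2 = true by decide +kernel) π.range fun L hL u hu => ?_)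
  have hl := lettersIn_of_baseOK (show baseOK tab 100 [0, 1, 2, 4, 5] chain2 = true by decide +kernel)
    L hL u hu
  exact ⟨val (wgen relP) u, π_val (List.all_eq_true.2 fun g hg =>
    List.any_eq_true.2 ⟨g, hl g hg, Nat.beq_refl g⟩)⟩

theorem ker_π {a : PS} (ha : π a = 1) : a = 1 ∨ a = zc := by
  by_contra hne
  push Not at hne
  have hk : Nat.card π.ker ≤ 2 := by
    have h := Subgroup.card_mul_index π.ker
    rw [Subgroup.index_ker, PS_base.1] at h
    have := card_range_π
    nlinarith
  let g : Fin 3 → π.ker := ![1, ⟨zc, π_zc⟩, ⟨a, ha⟩]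
  have hg : Function.Injective g := by
    intro i j hij
    have h := congrArg Subtype.val hij
    fin_cases i <;> fin_cases j <;>
      first
      | rfl
      | exact absurd h zc_ne
      | exact absurd h.symm zc_ne
      | exact absurd h hne.1
      | exact absurd h.symm hne.1
      | exact absurd h hne.2
      | exact absurd h.symm hne.2
  have := Nat.card_le_card_of_injective g hg
  rw [Nat.card_fin] at this
  omega

theorem eq_one_of_commute_G {g : Equiv.Perm (Fin 100)} (hg : ∀ k ∈ G, Commute g k) : g = 1 := by
  have h0 : g 0 = 0 := by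
    by_contra hne
    have hmv : (List.range 100).all (fun i => Nat.beq i 0 || (tail.flatMap Level.U).any fun u =>
        !(Nat.beq (twalk tab (winv u) i) i)) = true := by decide +kernel
    have h := List.all_eq_true.1 hmv (g 0).1 (List.mem_range.2 (g 0).2)
    simp only [Bool.or_eq_true, Nat.beq_eq, List.any_eq_true, Bool.not_eq_true', ← Bool.not_eq_true]
      at h
    obtain ⟨u, hu, hne'⟩ := h.resolve_left fun h => hne (Fin.ext h)
    obtain ⟨L, hL, huL⟩ := List.mem_flatMap.1 hu
    have hmem : val (pperm tab 100) u ∈ H := Subgroup.subset_closure ⟨L, hL, u, huL, rfl⟩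
    obtain ⟨hG, hfix⟩ := stab_eq.2 hmem
    refine hne' ?_
    rw [← val_pperm Sub100.perm_ok symS_P u
      (lettersIn_of_baseOK chain_ok L (List.mem_of_mem_tail hL) u huL)]
    have := congrArg (fun p : Equiv.Perm (Fin 100) => (p 0).1) (hg _ hG).eq
    simp only [Equiv.Perm.mul_apply, hfix] at this
    exact this.symm
  refine Equiv.ext fun i => ?_
  obtain ⟨k, hk, rfl⟩ := trans i
  rw [← Equiv.Perm.mul_apply, (hg k hk).eq, Equiv.Perm.mul_apply, h0]
  rfl

theorem πz_notMem : π (wgen relP 2) ∉ G := by
  intro h
  have hle : π.range ≤ G := by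
    rintro _ ⟨a, rfl⟩
    induction wgen_mem_closure a using Subgroup.closure_induction with
    | one => rw [map_one]; exact one_mem _
    | mem y hy =>
      obtain ⟨g, hg, rfl⟩ := hy
      simp only [Set.mem_ofPred_eq, List.mem_cons, List.not_mem_nil, or_false] at hg
      have hK : ∀ g ∈ [0, 1], wgen relP g ∈ Kχ := by
        intro g hg
        rw [MonoidHom.mem_ker, show wgen relP g = val (wgen relP) [g] by simp]
        simp only [List.mem_cons, List.not_mem_nil, or_false] at hg
        rcases hg with rfl | rfl <;> rw [χ_val (by decide)] <;> decide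
      rcases hg with rfl | rfl | rfl
      · exact ⟨_, hK 0 (by simp), rfl⟩
      · exact ⟨_, hK 1 (by simp), rfl⟩
      · exact h
    | mul a b _ _ ha hb => rw [map_mul]; exact mul_mem ha hb
    | inv a _ ha => rw [map_inv]; exact inv_mem ha
  have h1 := Subgroup.card_le_of_le hle
  rw [card_G_ker.1] at h1
  have := card_range_π
  omega

theorem sel_ok : lettersIn [0, 1, 2, 4, 5] sWord = true ∧ val signLett sWord = 1 := by
  refine ⟨?_, ?_⟩ <;> decide +kernel

theorem orderOf_sel : orderOf sel = 11 := by
  haveI : Fact (Nat.Prime 11) := ⟨by norm_num⟩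
  refine orderOf_eq_prime ?_ ?_
  · have := eq_of_twalk (a := List.flatten (List.replicate 11 sWord)) (b := []) (by decide +kernel)
      (by decide +kernel) (by decide +kernel)
    simpa [List.replicate, pow_succ, mul_assoc] using this
  · intro h
    have h1 : (π sel 1).1 = 1 := by rw [h, map_one π]; rfl
    rw [π_apply sel_ok.1] at h1
    revert h1
    decide +kernel

/-- The only involution commuting with the element of order eleven is central. -/
theorem involution_eq {a : PS} (ha : a * a = 1) (hne : a ≠ 1) (hc : Commute a sel) : a = zc := by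
  refine (ker_π ?_).resolve_left hne
  set g := π a
  have hgg : ∀ i, g (g i) = i := fun i => by
    rw [← Equiv.Perm.mul_apply, ← map_mul, ha, map_one]; rfl
  have hgs : ∀ i, g (π sel i) = π sel (g i) := fun i => by
    rw [← Equiv.Perm.mul_apply, ← map_mul, hc.eq, map_mul]; rfl
  have hs : ∀ i : Fin 100, (π sel i).1 = twalk tab (winv sWord) i.1 := π_apply sel_ok.1
  have hfix : (List.range 100).all (fun i =>
      Nat.beq i 0 || !(Nat.beq (twalk tab (winv sWord) i) i)) = true := by decide +kernel
  have h0 : g 0 = 0 := by
    have h : π sel (g 0) = g 0 := by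
      rw [← hgs]
      congr 1
      refine Fin.ext ?_
      rw [hs]
      decide +kernel
    have h' := List.all_eq_true.1 hfix (g 0).1 (List.mem_range.2 (g 0).2)
    rw [← hs, h] at h'
    simp at h'
    exact h'
  let c : ℕ → ℕ → Fin 100 := fun m j => ⟨(cyc.getD m []).getD (j % 11) 0 % 100, Nat.mod_lt _ (by norm_num)⟩
  have hstep : ∀ m < 2, ∀ j, π sel (c m j) = c m (j + 1) := by
    intro m hm j
    have h : (List.range 2).all (fun m => (List.range 11).all fun j =>
        Nat.beq (twalk tab (winv sWord) ((cyc.getD m []).getD j 0 % 100))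
          ((cyc.getD m []).getD ((j + 1) % 11) 0 % 100)) = true := by decide +kernel
    have h' := List.all_eq_true.1 h m (List.mem_range.2 hm)
    have h'' := List.all_eq_true.1 h' (j % 11) (List.mem_range.2 (Nat.mod_lt _ (by norm_num)))
    refine Fin.ext ?_
    rw [hs]
    simp only [Nat.beq_eq] at h''
    simpa [c, Nat.add_mod] using h''
  have hinv : ∀ i j : Fin 100, edge (g i).1 (g j).1 = edge i.1 j.1 := edge_inv a
  obtain ⟨m, hm, i, hi, hq⟩ : ∃ m < 2, ∃ i < 11, g (c 0 0) = c m i := by
    have h : (List.range 100).all (fun q => !(edge 0 q) ||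
        (cyc.getD 0 []).contains q || (cyc.getD 1 []).contains q) = true := by decide +kernel
    have he : edge 0 (g (c 0 0)).1 = true := by
      have := hinv 0 (c 0 0)
      rw [h0] at this
      rw [show (0 : Fin 100).1 = 0 from rfl] at this
      rw [this]
      decide +kernel
    have h' := List.all_eq_true.1 h _ (List.mem_range.2 (g (c 0 0)).2)
    simp only [he, Bool.not_true, Bool.false_or, Bool.or_eq_true, List.contains_iff_mem] at h'
    have hlen : (cyc.getD 0 []).length = 11 ∧ (cyc.getD 1 []).length = 11 := by decide +kernel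
    rcases h' with h' | h'
    all_goals
      obtain ⟨i, hi, hiq⟩ := List.getElem_of_mem h'
    · refine ⟨0, by norm_num, i, hlen.1 ▸ hi, Fin.ext ?_⟩
      show (g (c 0 0)).1 = (cyc.getD 0 []).getD (i % 11) 0 % 100
      rw [Nat.mod_eq_of_lt (hlen.1 ▸ hi : i < 11), List.getD_eq_getElem _ _ hi, hiq,
        Nat.mod_eq_of_lt (g (c 0 0)).2]
    · refine ⟨1, by norm_num, i, hlen.2 ▸ hi, Fin.ext ?_⟩
      show (g (c 0 0)).1 = (cyc.getD 1 []).getD (i % 11) 0 % 100
      rw [Nat.mod_eq_of_lt (hlen.2 ▸ hi : i < 11), List.getD_eq_getElem _ _ hi, hiq,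
        Nat.mod_eq_of_lt (g (c 0 0)).2]
  have hall : ∀ j, g (c 0 j) = c m (i + j) := by
    intro j
    induction j with
    | zero => exact hq
    | succ j ih => rw [← hstep 0 (by norm_num) j, hgs, ih, hstep m hm, Nat.add_assoc]
  interval_cases m
  · have h2 : c 0 0 = c 0 (i + i) := by
      conv_lhs => rw [← hgg (c 0 0), hq, hall]
    have hi0 : i = 0 := by
      have : (List.range 11).all (fun i => Nat.beq i 0 || !(Nat.beq ((cyc.getD 0 []).getD ((i + i) % 11) 0 % 100)
          ((cyc.getD 0 []).getD 0 0 % 100))) = true := by decide +kernel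
      have h' := List.all_eq_true.1 this i (List.mem_range.2 hi)
      have h2' : (cyc.getD 0 []).getD 0 0 % 100 = (cyc.getD 0 []).getD ((i + i) % 11) 0 % 100 :=
        congrArg Fin.val h2
      simp only [Bool.or_eq_true, Nat.beq_eq, Bool.not_eq_true', ← Bool.not_eq_true] at h'
      exact h'.resolve_right fun h => h h2'.symm
    subst hi0
    simp only [Nat.zero_add] at hall
    have hC : ∀ p : Fin 100, p ≠ 0 → edge 0 p.1 = false → g p = p := by
      intro p hp he
      have h : (List.range 100).all (fun p => (List.range 100).all fun q =>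
          Nat.beq p 0 || edge 0 p || Nat.beq q 0 || edge 0 q || Nat.beq p q ||
          (List.range 11).any fun j => edge p ((cyc.getD 0 []).getD j 0 % 100) !=
            edge q ((cyc.getD 0 []).getD j 0 % 100)) = true := by decide +kernel
      have he' : edge 0 (g p).1 = false := by
        have := hinv 0 p
        rw [h0] at this
        exact this.trans he
      have hp' : g p ≠ 0 := fun h => hp (by rw [← hgg p, h, h0])
      have h' := List.all_eq_true.1 (List.all_eq_true.1 h p.1 (List.mem_range.2 p.2)) (g p).1
        (List.mem_range.2 (g p).2)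
      simp only [Bool.or_eq_true, Nat.beq_eq, List.any_eq_true, List.mem_range, bne_iff_ne, he, he',
        Bool.false_eq_true, or_false] at h'
      rcases h' with ((h' | h') | h') | ⟨j, hj, hne'⟩
      · exact absurd (Fin.ext h') hp
      · exact absurd (Fin.ext h') hp'
      · exact (Fin.ext h').symm
      · have := hinv p (c 0 j)
        rw [hall] at this
        simp only [c, Nat.mod_eq_of_lt hj] at this
        exact absurd this.symm hne'
    refine Equiv.ext fun p => ?_
    show g p = p
    rcases eq_or_ne p 0 with rfl | hp
    · exact h0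
    cases he : edge 0 p.1
    · exact hC p hp he
    · have h : (List.range 100).all (fun p => (List.range 100).all fun q =>
          !(edge 0 p) || !(edge 0 q) || Nat.beq p q ||
          (List.range 100).any fun d => !(Nat.beq d 0) && !(edge 0 d) && (edge d p != edge d q)) = true := by
        decide +kernel
      have he' : edge 0 (g p).1 = true := by
        have := hinv 0 p
        rw [h0] at this
        exact this.trans he
      have h' := List.all_eq_true.1 (List.all_eq_true.1 h p.1 (List.mem_range.2 p.2)) (g p).1
        (List.mem_range.2 (g p).2)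
      simp only [Bool.or_eq_true, Nat.beq_eq, List.any_eq_true, List.mem_range, Bool.and_eq_true,
        bne_iff_ne, he, he', Bool.not_true, Bool.false_eq_true, false_or, Bool.not_eq_true',
        ← Bool.not_eq_true] at h'
      rcases h' with h' | ⟨d, hd, ⟨hd0, hde⟩, hne'⟩
      · exact (Fin.ext h').symm
      · have := hinv ⟨d, hd⟩ p
        rw [hC ⟨d, hd⟩ (fun h => hd0 (congrArg Fin.val h)) (by simpa using hde)] at this
        exact absurd this.symm hne'
  · exfalso
    have h : (List.range 11).all (fun i => (List.range 100).all fun d =>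
        Nat.beq d 0 || edge 0 d || (List.range 11).any fun j =>
        edge 34 ((cyc.getD 0 []).getD j 0 % 100) &&
          !(edge d ((cyc.getD 1 []).getD ((i + j) % 11) 0 % 100))) = true := by decide +kernel
    have h34 : (34 : Fin 100) ≠ 0 := by decide
    have hd0 : g 34 ≠ 0 := fun h => h34 (by rw [← hgg 34, h, h0])
    have hde : edge 0 (g 34).1 = false := by
      have := hinv 0 34
      rw [h0] at this
      rw [show ((0 : Fin 100).1) = 0 from rfl, show ((34 : Fin 100).1) = 34 from rfl] at this
      rw [this]
      decide +kernel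
    have h' := List.all_eq_true.1 (List.all_eq_true.1 h i (List.mem_range.2 hi)) (g 34).1
      (List.mem_range.2 (g 34).2)
    simp only [Bool.or_eq_true, Nat.beq_eq, hde, Bool.false_eq_true, or_false, List.any_eq_true,
      List.mem_range, Bool.and_eq_true, Bool.not_eq_true'] at h'
    replace h' := h'.resolve_left fun h => hd0 (Fin.ext h)
    obtain ⟨j, hj, he, he'⟩ := h'
    have := hinv 34 (c 0 j)
    rw [hall] at this
    simp only [c, Nat.mod_eq_of_lt hj] at this
    rw [he'] at this
    rw [show ((34 : Fin 100).1) = 34 from rfl, he] at this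
    exact absurd this (by decide)

end Cfsg.Lib.HN.Out
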