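import Cfsg.Agent.Lib.HN.Simple
import Cfsg.Agent.Lib.HN.Out.Graph

/-!
# Centralisers, the subgroup of order `126000` and its normaliser
-/

set_option autoImplicit false
set_option maxRecDepth 100000

namespace Cfsg.Lib.HN.Out

open Top Top.Data

theorem φP_wgen {i : ℕ} (hi : i < 3) : φP (wgen relP i) = hx i := by
  have := φP_val (w := [i]) (fun a ha => by
    simp only [List.mem_cons, List.not_mem_nil, or_false] at ha ⊢; omega)
  simpa using this

theorem φP_mem (a : PS) : φP a ∈ Hsub := by rw [Hsub_eq]; exact ⟨a, rfl⟩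

theorem exists_of_mem {g : Spor.HN} (hg : g ∈ Hsub) : ∃ a, φP a = g := by
  rwa [Hsub_eq] at hg

theorem φP_zc : φP Sub100.zc = hx 0 * hx 0 := by rw [map_mul, φP_wgen (by norm_num)]

theorem zH_commute {g : Spor.HN} (hg : g ∈ Hsub) : Commute (φP Sub100.zc) g := by
  obtain ⟨a, rfl⟩ := exists_of_mem hg
  exact (Sub100.zc_comm a).map φP

/-- The centraliser of the central involution. -/
theorem mem_Hsub_of_commute {g : Spor.HN} (hg : Commute (φP Sub100.zc) g) : g ∈ Hsub := by
  by_contra hgH
  set C := Subgroup.centralizer ({φP Sub100.zc} : Set Spor.HN)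
  have hle : Hsub ≤ C := fun k hk =>
    Subgroup.mem_centralizer_singleton_iff.2 (zH_commute hk).eq.symm
  have hgC : g ∈ C := Subgroup.mem_centralizer_singleton_iff.2 hg.eq.symm
  have htop := eq_top_of_lt (lt_of_le_of_ne hle fun h => hgH (h ▸ hgC))
  have h1 : φP Sub100.zc = 1 := eq_one_of_core fun k => by
    have hk := Subgroup.mem_centralizer_singleton_iff.1 (show k ∈ C from htop ▸ Subgroup.mem_top k)
    rw [mul_assoc, ← hk, inv_mul_cancel_left]
    exact φP_mem _
  exact Sub100.zc_ne (φP_injective (by rw [h1, map_one]))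

theorem orders_card {j : ℕ} (hj : j < 9) :
    Nat.card (wordSub (wgen relP) (odata.kgens j)) = orders.getD j 0 :=
  le_antisymm (card_Kj ⟨j, by rw [K_length]; exact hj⟩) (lower_card hj)

/-- An element fixing the coset of a point lies in a conjugate of its subgroup. -/
theorem conj_mem_of_fix {d : PS} {j : Fin odata.K.length} {a : PS}
    (h : φP d • toCos (odata.mk' (wgen relP) j a) = toCos (odata.mk' (wgen relP) j a)) :
    a⁻¹ * d * a ∈ odata.Kj (wgen relP) j := by
  rw [← toCos_sm] at h
  have h2 := toCos_bijective.1 h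
  rw [sm, osmul_mk, OData.mk', OData.mk'] at h2
  have h3 := QuotientGroup.eq.1 (eq_of_heq (Sigma.mk.inj h2).2).symm
  simpa [mul_assoc] using h3

/-- The centraliser of the element of order eleven lies in the subgroup. -/
theorem mem_Hsub_of_commute_sel {g : Spor.HN} (hg : Commute (φP sel) g) : g ∈ Hsub := by
  have hfix : φP sel • (g : Cos) = g := by
    rw [← smul_c0 g, smul_smul, hg.eq, mul_smul, φP_fix]
  obtain ⟨⟨j, q⟩, hw⟩ := toCos_bijective.2 (g : Cos)
  obtain ⟨a, rfl⟩ := QuotientGroup.mk_surjective q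
  rw [← hw] at hfix
  have hmem := conj_mem_of_fix hfix
  change φP a • rhoPt j.1 = (g : Cos) at hw
  by_cases h0 : j.1 = 0
  · rw [rhoPt, h0, show sys.ρ.getD 0 [] = [] by decide +kernel, val_nil, one_smul, smul_c0,
      QuotientGroup.eq] at hw
    have := Hsub.mul_mem (φP_mem a) hw
    simpa using this
  · exfalso
    have ho : orderOf (a⁻¹ * sel * a) = 11 := by
      rw [show a⁻¹ * sel * a = MulAut.conj a⁻¹ sel by simp]
      exact (MulEquiv.orderOf_eq _ _).trans orderOf_sel
    have hd : 11 ∣ Nat.card (odata.Kj (wgen relP) j) := by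
      rw [← ho]
      exact Subgroup.orderOf_dvd_natCard (odata.Kj (wgen relP) j) hmem
    have hj : j.1 < 9 := K_length ▸ j.2
    rw [show Nat.card (odata.Kj (wgen relP) j) = orders.getD j.1 0 from orders_card hj] at hd
    have hall : (List.range 9).all (fun j => Nat.beq j 0 || !(decide (11 ∣ orders.getD j 0))) = true := by
      decide +kernel
    have h := List.all_eq_true.1 hall j.1 (List.mem_range.2 hj)
    simp only [Bool.or_eq_true, Nat.beq_eq, Bool.not_eq_true', decide_eq_false_iff_not] at h
    exact h.resolve_left h0 hd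

/-- The only involution commuting with the element of order eleven. -/
theorem involution_eq_zH {u : Spor.HN} (hu : u * u = 1) (hne : u ≠ 1) (hc : Commute (φP sel) u) :
    u = φP Sub100.zc := by
  obtain ⟨a, rfl⟩ := exists_of_mem (mem_Hsub_of_commute_sel hc)
  refine congrArg φP (involution_eq (φP_injective (by rw [map_mul, hu, map_one])) (fun h => hne ?_)
    (φP_injective (by rw [map_mul, map_mul]; exact hc.eq.symm)))
  rw [h, map_one]

/-- The subgroup is self-normalising. -/
theorem mem_Hsub_of_normalize {g : Spor.HN} (h : ∀ k ∈ Hsub, g * k * g⁻¹ ∈ Hsub)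
    (h' : ∀ k ∈ Hsub, g⁻¹ * k * g ∈ Hsub) : g ∈ Hsub := by
  obtain ⟨a, ha⟩ := exists_of_mem (h _ (φP_mem Sub100.zc))
  have hz2 : φP Sub100.zc * φP Sub100.zc = 1 := by
    rw [φP_zc, ← hx_sq.1]; simp [pow_succ, mul_assoc]
  have hne : φP Sub100.zc ≠ 1 := fun h => Sub100.zc_ne (φP_injective (by rw [h, map_one]))
  have he : g * φP Sub100.zc * g⁻¹ = φP Sub100.zc := by
    refine involution_eq_zH ?_ (fun he => hne ?_) ?_
    · rw [show g * φP Sub100.zc * g⁻¹ * (g * φP Sub100.zc * g⁻¹) =
        g * (φP Sub100.zc * φP Sub100.zc) * g⁻¹ by group, hz2]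
      group
    · calc φP Sub100.zc = g⁻¹ * (g * φP Sub100.zc * g⁻¹) * g := by group
        _ = 1 := by rw [he]; group
    · have hk := zH_commute (h' _ (φP_mem sel))
      rw [commute_iff_eq] at hk ⊢
      calc φP sel * (g * φP Sub100.zc * g⁻¹) = g * ((g⁻¹ * φP sel * g) * φP Sub100.zc) * g⁻¹ := by group
        _ = g * (φP Sub100.zc * (g⁻¹ * φP sel * g)) * g⁻¹ := by rw [hk]
        _ = g * φP Sub100.zc * g⁻¹ * φP sel := by group
  refine mem_Hsub_of_commute ?_
  rw [commute_iff_eq]
  calc φP Sub100.zc * g = g * φP Sub100.zc * g⁻¹ * g := by rw [he]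
    _ = g * φP Sub100.zc := by group

/-- The powers of the first generator carry the base point to the fixed points of `stab0`. -/
theorem fixed_points {p : Fin 1408} (h : ∀ d ∈ stab0, ψP d p = p) :
    ∃ i < 4, ψP (wgen relP 0 ^ i) o = p := by
  have hh : ∀ u ∈ cGens, twalk sys.P (winv u) p.1 = p.1 := fun u hu => by
    have hd : val (wgen relP) u ∈ stab0 := by
      rw [stab0_eq]; exact val_mem_wordSub hu
    have := congrArg Fin.val (h _ hd)
    rwa [model.eval u (cGens_letters u hu) p] at this
  have hall : (List.range 1408).all (fun p => !(cGens.all fun u => Nat.beq (twalk sys.P (winv u) p) p) ||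
      (List.range 4).any fun i => Nat.beq (twalk sys.P (winv (List.replicate i 0)) 0) p) = true := by
    decide +kernel
  have h' := List.all_eq_true.1 hall p.1 (List.mem_range.2 p.2)
  have ht : (cGens.all fun u => Nat.beq (twalk sys.P (winv u) p.1) p.1) = true :=
    List.all_eq_true.2 fun u hu => by simpa [Nat.beq_eq] using hh u hu
  rw [ht] at h'
  simp only [Bool.not_true, Bool.false_or, List.any_eq_true, List.mem_range, Nat.beq_eq] at h'
  obtain ⟨i, hi, hip⟩ := h'
  refine ⟨i, hi, Fin.ext ?_⟩
  have hv : val (wgen relP) (List.replicate i 0) = wgen relP 0 ^ i := by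
    clear hip hi
    induction i with
    | zero => simp
    | succ i ih => rw [List.replicate_succ, val_cons, ih, pow_succ']
  rw [← hv, eval_zero (by interval_cases i <;> decide +kernel)]
  exact hip

/-- An element normalising `stab0` is a power of the first generator times an element of it. -/
theorem normalizer_stab0 {a : PS} (h : ∀ d ∈ stab0, a⁻¹ * d * a ∈ stab0) :
    ∃ i < 4, ∃ l ∈ stab0, a = wgen relP 0 ^ i * l := by
  obtain ⟨i, hi, he⟩ := fixed_points (p := ψP a o) fun d hd => by
    have h1 : ψP (a⁻¹ * d * a) o = o := h d hd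
    rw [map_mul, map_mul, map_inv, Equiv.Perm.mul_apply, Equiv.Perm.mul_apply,
      Equiv.Perm.inv_eq_iff_eq] at h1
    exact h1
  refine ⟨i, hi, (wgen relP 0 ^ i)⁻¹ * a, ?_, by group⟩
  show ψP ((wgen relP 0 ^ i)⁻¹ * a) o = o
  rw [map_mul, map_inv, Equiv.Perm.mul_apply, Equiv.Perm.inv_eq_iff_eq, he]

end Cfsg.Lib.HN.Out
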