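import Cfsg.Agent.Lib.HN.Out.Fix
import Cfsg.Agent.Lib.HN.Multiplier

/-!
# The outer automorphism group of the presented group has order two
-/

set_option autoImplicit false
set_option maxRecDepth 100000

namespace Cfsg.Lib.HN.Out

open Sub100 (zc π G Kχ)
open Top (Hsub)

theorem finite_HN' : Finite Spor.HN :=
  Nat.finite_of_card_ne_zero (by rw [Top.card_HN]; norm_num)

/-- After an inner automorphism the element of order eleven generates the same subgroup. -/
theorem exists_conj (φ : MulAut Spor.HN) : ∃ g : Spor.HN,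
    Subgroup.zpowers (MulAut.conj g (φ (φP sel))) = Subgroup.zpowers (φP sel) := by
  haveI := finite_HN'
  haveI : Fact (Nat.Prime 11) := ⟨by norm_num⟩
  have ho : orderOf (φP sel) = 11 := by
    rw [orderOf_injective φP Top.φP_injective, orderOf_sel]
  have hidx : ∀ x : Spor.HN, orderOf x = 11 → ¬ 11 ∣ (Subgroup.zpowers x).index := by
    intro x hx' hd
    have h := Subgroup.card_mul_index (Subgroup.zpowers x)
    rw [Nat.card_zpowers, hx', Top.card_HN] at h
    omega
  have ho' : orderOf (φ (φP sel)) = 11 := by rw [MulEquiv.orderOf_eq, ho]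
  let P : Sylow 11 Spor.HN := (IsPGroup.of_card (n := 1)
    (by rw [Nat.card_zpowers, ho', pow_one])).toSylow (hidx _ ho')
  let Q : Sylow 11 Spor.HN := (IsPGroup.of_card (n := 1)
    (by rw [Nat.card_zpowers, ho, pow_one])).toSylow (hidx _ ho)
  obtain ⟨g, hg⟩ := MulAction.exists_smul_eq Spor.HN P Q
  refine ⟨g, ?_⟩
  have h1 : (Q : Subgroup Spor.HN) = (P : Subgroup Spor.HN).map (MulAut.conj g).toMonoidHom := by
    rw [← hg]; rfl
  rw [show (P : Subgroup Spor.HN) = Subgroup.zpowers (φ (φP sel)) from rfl,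
    show (Q : Subgroup Spor.HN) = Subgroup.zpowers (φP sel) from rfl, MonoidHom.map_zpowers] at h1
  exact h1.symm

/-- An automorphism fixing the subgroup of the element of order eleven fixes the central involution
of the subgroup and the subgroup. -/
theorem fix_zH {φ : MulAut Spor.HN}
    (h : Subgroup.zpowers (φ (φP sel)) = Subgroup.zpowers (φP sel)) :
    φ (φP zc) = φP zc ∧ ∀ g, g ∈ Hsub ↔ φ g ∈ Hsub := by
  have hne : φP zc ≠ 1 := fun h => Sub100.zc_ne (Top.φP_injective (by rw [h, map_one]))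
  have hfix : φ (φP zc) = φP zc := by
    refine involution_eq_zH ?_ (fun he => hne (φ.injective (by rw [he, map_one]))) ?_
    · rw [← map_mul, φP_zc,
        show hx 0 * hx 0 * (hx 0 * hx 0) = 1 by rw [← hx_sq.1]; simp [pow_succ, mul_assoc], map_one]
    · obtain ⟨n, hn⟩ := Subgroup.mem_zpowers_iff.1 (h.symm ▸ Subgroup.mem_zpowers (φP sel) :
        φP sel ∈ Subgroup.zpowers (φ (φP sel)))
      rw [← hn]
      exact (((zH_commute (φP_mem sel)).symm).map φ).zpow_left n
  refine ⟨hfix, fun g => ⟨fun hg => mem_Hsub_of_commute ?_, fun hg => mem_Hsub_of_commute ?_⟩⟩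
  · rw [← hfix]; exact (zH_commute hg).map φ
  · have := (zH_commute hg).map φ.symm
    rwa [φ.symm_apply_apply, show φ.symm (φP zc) = φP zc by
      conv_lhs => rw [← hfix]
      exact φ.symm_apply_apply _] at this

theorem commutator_PS : commutator PS = Kχ := by
  apply le_antisymm
  · rw [_root_.commutator_def, Subgroup.commutator_le]
    intro a _ b _
    rw [MonoidHom.mem_ker, map_commutatorElement, commutatorElement_eq_one_iff_mul_comm]
    exact mul_comm _ _
  · intro k hk
    have h : (⟨k, hk⟩ : Kχ) ∈ commutator Kχ := by rw [perfect_Kχ]; trivial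
    have h' : k ∈ (commutator Kχ).map Kχ.subtype := ⟨_, h, rfl⟩
    rw [_root_.commutator_def, Subgroup.map_commutator] at h'
    exact Subgroup.commutator_mono le_top le_top h'

theorem zc_mem_center {a : PS} (ha : π a = 1) : a ∈ Subgroup.center PS := by
  rcases ker_π ha with rfl | rfl
  · exact one_mem _
  · exact Subgroup.mem_center_iff.2 fun g => (Sub100.zc_comm g).eq.symm

/-- An automorphism of the double cover fixing its centre is, on the derived group, a conjugation. -/
theorem conj_on_Kχ {ψ : PS →* PS} (hψ : Function.Bijective ψ) (hzc : ψ zc = zc) :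
    ∃ b : PS, ∀ k ∈ Kχ, ψ k = b * k * b⁻¹ := by
  have hK : Kχ.map ψ = Kχ := by
    rw [← commutator_PS, _root_.commutator_def, Subgroup.map_commutator,
      Subgroup.map_top_of_surjective _ hψ.2]
  have hmem : ∀ k ∈ Kχ, ψ k ∈ Kχ := fun k hk => hK ▸ ⟨k, hk, rfl⟩
  set f := Sub100.f
  have hfs : Function.Surjective f := π.subgroupMap_surjective Kχ
  let f' : Kχ →* G := f.comp ((ψ.comp Kχ.subtype).codRestrict Kχ fun k => hmem k.1 k.2)
  have hker : f.ker ≤ f'.ker := by
    intro k hk
    have h1 : π k.1 = 1 := congrArg Subtype.val hk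
    refine Subtype.ext ?_
    show π (ψ k.1) = 1
    rcases ker_π h1 with h | h <;> rw [h]
    · rw [map_one, map_one]
    · rw [hzc]; exact Sub100.π_zc
  let θ : G →* G := f.liftOfSurjective hfs ⟨f', hker⟩
  have hθ : ∀ k, θ (f k) = f' k := fun k =>
    MonoidHom.liftOfRightInverse_comp_apply f _ (Function.rightInverse_surjInv hfs) ⟨f', hker⟩ k
  have hθs : Function.Surjective θ := by
    intro g
    obtain ⟨⟨k, hk⟩, rfl⟩ := hfs g
    rw [← hK] at hk
    obtain ⟨k', hk', rfl⟩ := hk
    exact ⟨f ⟨k', hk'⟩, hθ ⟨k', hk'⟩⟩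
  let θ' : MulAut G := MulEquiv.ofBijective θ ⟨Finite.injective_iff_surjective.2 hθs, hθs⟩
  -- the outer automorphism
  have hzn : ∀ g ∈ G, π (wgen relP 2) * g * (π (wgen relP 2))⁻¹ ∈ G := by
    rintro _ ⟨k, hk, rfl⟩
    exact ⟨wgen relP 2 * k * (wgen relP 2)⁻¹, (inferInstance : Kχ.Normal).conj_mem k hk _, by
      rw [map_mul, map_mul, map_inv]⟩
  let c0 : G →* G :=
    ((MulAut.conj (π (wgen relP 2))).toMonoidHom.comp G.subtype).codRestrict G fun g => hzn g.1 g.2
  have hc0 : Function.Injective c0 := fun g g' h =>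
    Subtype.ext ((MulAut.conj (π (wgen relP 2))).injective (congrArg Subtype.val h))
  let c2 : MulAut G := MulEquiv.ofBijective c0 ⟨hc0, Finite.injective_iff_surjective.1 hc0⟩
  have hc2 : c2 ∉ Inn G := by
    rintro ⟨⟨k, hk⟩, hkc⟩
    have h1 : ∀ g ∈ G, Commute (k⁻¹ * π (wgen relP 2)) g := fun g hg => by
      have h2 := congrArg (fun c : MulAut G => (c ⟨g, hg⟩).1) hkc
      change k * g * k⁻¹ = π (wgen relP 2) * g * (π (wgen relP 2))⁻¹ at h2
      rw [commute_iff_eq]
      calc k⁻¹ * π (wgen relP 2) * g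
          = k⁻¹ * (π (wgen relP 2) * g * (π (wgen relP 2))⁻¹) * π (wgen relP 2) := by group
        _ = g * (k⁻¹ * π (wgen relP 2)) := by rw [← h2]; group
    exact πz_notMem ((inv_mul_eq_one.1 (eq_one_of_commute_G h1)) ▸ hk)
  obtain ⟨e⟩ := Sub100.iso_G
  have hout : Nat.card (Out G) = 2 := by
    rw [Cfsg.Lib.PermAut.out_congr e]; exact Cfsg.Lib.PermAut.Hs.card_out_hs
  have hcases : θ' ∈ Inn G ∨ c2⁻¹ * θ' ∈ Inn G := by
    obtain ⟨x, y, hxy, hu⟩ := Nat.card_eq_two_iff.1 hout
    have hall : ∀ q : Out G, q = x ∨ q = y := fun q => by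
      have : q ∈ ({x, y} : Set (Out G)) := hu ▸ Set.mem_univ q
      simpa using this
    have hne : ((1 : MulAut G) : Out G) ≠ (c2 : Out G) := fun h => hc2 (by
      have := QuotientGroup.eq.1 h
      simpa using this)
    by_cases h1 : θ' ∈ Inn G
    · exact Or.inl h1
    · refine Or.inr (QuotientGroup.eq.1 ?_)
      have h1' : ((1 : MulAut G) : Out G) ≠ (θ' : Out G) := fun h => h1 (by
        have := QuotientGroup.eq.1 h
        simpa using this)
      rcases hall (1 : MulAut G) with a | a <;> rcases hall c2 with b | b <;>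
        rcases hall θ' with c | c
      all_goals first
        | exact absurd (a.trans b.symm) hne
        | exact absurd (a.trans c.symm) h1'
        | exact b.trans c.symm
  obtain ⟨b, hb⟩ : ∃ b : PS, ∀ k (hk : k ∈ Kχ), π (ψ k) = π b * π k * (π b)⁻¹ := by
    rcases hcases with ⟨⟨_, k0, hk0, rfl⟩, hkθ⟩ | ⟨⟨_, k0, hk0, rfl⟩, hkθ⟩
    · refine ⟨k0, fun k hk => ?_⟩
      have := congrArg (fun c : MulAut G => (c (f ⟨k, hk⟩)).1) hkθ
      change π k0 * π k * (π k0)⁻¹ = (θ (f ⟨k, hk⟩)).1 at this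
      rw [this, hθ]; rfl
    · refine ⟨wgen relP 2 * k0, fun k hk => ?_⟩
      have h2 : c2 * MulAut.conj ⟨π k0, k0, hk0, rfl⟩ = θ' := by rw [hkθ, mul_inv_cancel_left]
      have := congrArg (fun c : MulAut G => (c (f ⟨k, hk⟩)).1) h2
      change π (wgen relP 2) * (π k0 * π k * (π k0)⁻¹) * (π (wgen relP 2))⁻¹ =
        (θ (f ⟨k, hk⟩)).1 at this
      rw [hθ] at this
      rw [show π (ψ k) = (f' ⟨k, hk⟩).1 from rfl, ← this, map_mul]
      group
  refine ⟨b, fun k hk => ?_⟩
  have hc : (⟨k, hk⟩ : Kχ) ∈ commutator Kχ := by rw [perfect_Kχ]; trivial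
  exact Cfsg.Lib.Schur.eqOn_commutator (β := ψ.comp Kχ.subtype)
    (β' := (MulAut.conj b).toMonoidHom.comp Kχ.subtype)
    (fun x => zc_mem_center (by
      show π ((ψ x.1)⁻¹ * (b * x.1 * b⁻¹)) = 1
      rw [map_mul, map_inv, map_mul, map_mul, map_inv, hb x.1 x.2, inv_mul_cancel]))
    hc

/-- Every automorphism is inner or the product of an inner one and the outer automorphism. -/
theorem mem_or_mem (φ : MulAut Spor.HN) :
    φ ∈ Inn Spor.HN ∨ α * φ ∈ Inn Spor.HN := by
  haveI := finite_HN'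
  obtain ⟨g, hg⟩ := exists_conj φ
  set φ1 := MulAut.conj g * φ
  obtain ⟨hzc, hH⟩ := fix_zH (φ := φ1) hg
  let ψ : PS →* PS := (MonoidHom.ofInjective Top.φP_injective).symm.toMonoidHom.comp
    ((φ1.toMonoidHom.comp φP).codRestrict φP.range fun a => exists_of_mem ((hH _).1 (φP_mem a)))
  have hψ : ∀ a, φP (ψ a) = φ1 (φP a) := fun a =>
    congrArg Subtype.val ((MonoidHom.ofInjective Top.φP_injective).apply_symm_apply _)
  have hψi : Function.Injective ψ := fun a a' h =>
    Top.φP_injective (φ1.injective (by rw [← hψ, ← hψ, h]))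
  obtain ⟨b, hb⟩ := conj_on_Kχ (ψ := ψ) ⟨hψi, Finite.injective_iff_surjective.1 hψi⟩
    (Top.φP_injective (by rw [hψ, hzc]))
  -- the normalised automorphism
  set φ2 := (MulAut.conj (φP b))⁻¹ * φ1
  let ψ2 : PS →* PS := (MulAut.conj b⁻¹).toMonoidHom.comp ψ
  have hψ2a : ∀ a, ψ2 a = b⁻¹ * ψ a * b := fun a => by
    show b⁻¹ * ψ a * b⁻¹⁻¹ = _
    rw [inv_inv]
  have hψ2 : ∀ a, φP (ψ2 a) = φ2 (φP a) := fun a => by
    rw [hψ2a, map_mul, map_mul, map_inv, hψ]; rfl
  have hψK : ∀ k ∈ Kχ, ψ2 k = k := fun k hk => by rw [hψ2a, hb k hk]; group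
  have hK01 : ∀ i < 2, wgen relP i ∈ Kχ := by
    intro i hi
    rw [MonoidHom.mem_ker, show wgen relP i = val (wgen relP) [i] by simp]
    interval_cases i <;> rw [Sub100.χ_val (by decide)] <;> decide
  set d := ψ2 (wgen relP 2) * (wgen relP 2)⁻¹
  have hd : d = 1 ∨ d = zc := by
    refine ker_π (eq_one_of_commute_G ?_)
    rintro _ ⟨k, hk, rfl⟩
    have hk' : (wgen relP 2)⁻¹ * k * wgen relP 2 ∈ Kχ := by
      simpa using (inferInstance : Kχ.Normal).conj_mem k hk (wgen relP 2)⁻¹
    have h1 := hψK _ hk'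
    rw [map_mul, map_mul, map_inv, hψK k hk] at h1
    have : Commute d k := by
      rw [commute_iff_eq]
      calc d * k = ψ2 (wgen relP 2) * ((wgen relP 2)⁻¹ * k * wgen relP 2) * (wgen relP 2)⁻¹ := by
            simp only [d]; group
        _ = k * d := by rw [← h1]; simp only [d]; group
    exact this.map π
  have hf : ∀ i < 2, φ2 (hx i) = hx i := fun i hi => by
    rw [← φP_wgen (show i < 3 by omega), ← hψ2, hψK _ (hK01 i hi)]
  have hf2 : φ2 (hx 2) = φP d * hx 2 := by
    rw [← φP_wgen (show (2 : ℕ) < 3 by norm_num), ← hψ2, ← map_mul]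
    congr 1
    simp only [d]; group
  have hI : ∀ x : Spor.HN, MulAut.conj x ∈ Inn Spor.HN := fun x => ⟨x, rfl⟩
  have back : φ2 ∈ Inn Spor.HN → φ ∈ Inn Spor.HN := fun h => by
    have e : φ = (MulAut.conj g)⁻¹ * (MulAut.conj (φP b) * φ2) := by
      simp only [φ2, φ1, mul_inv_cancel_left, inv_mul_cancel_left]
    rw [e]
    exact mul_mem (inv_mem (hI g)) (mul_mem (hI _) h)
  rcases hd with hd | hd
  · refine Or.inl (back (inner_of_fix fun i hi => ?_))
    rcases Nat.lt_or_ge i 2 with h | h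
    · exact hf i h
    · obtain rfl : i = 2 := by omega
      rw [hf2, hd, map_one, one_mul]
  · refine Or.inr ?_
    have h3 : α * φ2 ∈ Inn Spor.HN := inner_of_fix fun i hi => by
      obtain ⟨a0, a1, a2, -⟩ := αHom_hx
      show α (φ2 (hx i)) = hx i
      rcases Nat.lt_or_ge i 2 with h | h
      · rw [hf i h, α_apply]
        interval_cases i
        · exact a0
        · exact a1
      · obtain rfl : i = 2 := by omega
        rw [hf2, hd, φP_zc, α_apply, map_mul, map_mul, a0, a2]
        have hac := hx_sq.2.2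
        rw [pow_two] at hac
        rw [← mul_assoc, hac.eq, mul_assoc (hx 2) (hx 0 * hx 0),
          show hx 0 * hx 0 * (hx 0 * hx 0) = 1 by rw [← hx_sq.1]; simp [pow_succ, mul_assoc], mul_one]
    have e : α * φ = (α * ((MulAut.conj g)⁻¹ * MulAut.conj (φP b)) * α⁻¹) * (α * φ2) := by
      simp only [φ2, φ1, mul_assoc, inv_mul_cancel_left, mul_inv_cancel_left]
    rw [e]
    exact mul_mem ((inferInstance : (Inn Spor.HN).Normal).conj_mem _
      (mul_mem (inv_mem (hI g)) (hI _)) α) h3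

theorem card_out : Nat.card (Out Spor.HN) = 2 := by
  refine Nat.card_eq_two_iff.2 ⟨((1 : MulAut Spor.HN) : Out Spor.HN), (α : Out Spor.HN),
    fun h => α_notInn ?_, Set.eq_univ_of_forall fun q => ?_⟩
  · have := QuotientGroup.eq.1 h
    simpa using this
  · obtain ⟨φ, rfl⟩ := QuotientGroup.mk_surjective q
    rcases mem_or_mem φ with h | h
    · refine Or.inl (QuotientGroup.eq.2 ?_)
      simpa using inv_mem h
    · refine Or.inr (QuotientGroup.eq.2 ?_)
      have h2 : α * α ∈ Inn Spor.HN := ⟨hx 0 * hx 0, α_sq.symm⟩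
      have : φ⁻¹ * α = (α * φ)⁻¹ * (α * α) := by simp [mul_assoc]
      rw [this]
      exact mul_mem (inv_mem h) h2

end Cfsg.Lib.HN.Out
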